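import Groth.Agent.Lib.ExtFil4.Uniq
import Mathlib.LinearAlgebra.Alternating.Uncurry.Fin
import Mathlib.LinearAlgebra.Alternating.Curry

/-!
# The next exterior power is a retract of a tensor product in characteristic zero

The wedge `E ⊗ ⋀^n E → ⋀^(n+1) E` followed by the antisymmetrisation in the other order is `n + 1`.
-/

set_option autoImplicit false
set_option linter.style.haveILetI false
set_option linter.unusedSectionVars false
set_option backward.isDefEq.respectTransparency false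
set_option backward.isDefEq.respectTransparency.types false
set_option maxHeartbeats 800000

universe u

open CategoryTheory Limits AlgebraicGeometry Opposite TopologicalSpace TensorProduct exteriorPower

noncomputable section

namespace Groth.Agent.ExtRet11

open ExtFil4
open KoszShH13 (IsAffBasis isAffBasis_top exists_glue)

section alg

variable (A : Type u) [CommRing A] (E : Type u) [AddCommGroup E] [Module A E] (n : ℕ)

/-- The wedge with an element. -/
def mu : E ⊗[A] ↥(⋀[A]^n E) →ₗ[A] ↥(⋀[A]^(n + 1) E) :=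
  TensorProduct.lift
    ((exteriorPower.alternatingMapLinearEquiv (N := ↥(⋀[A]^(n + 1) E))).toLinearMap ∘ₗ
      (ιMulti A (n + 1) (M := E)).curryLeft)

theorem mu_tmul (x : E) (v : Fin n → E) : mu A E n (x ⊗ₜ ιMulti A n v) = ιMulti A (n + 1) (Matrix.vecCons x v) := by
  simp [mu]

/-- The tensor with a wedge, as an alternating map. -/
def tw : E →ₗ[A] E [⋀^Fin n]→ₗ[A] (E ⊗[A] ↥(⋀[A]^n E)) where
  toFun x := (TensorProduct.mk A E ↥(⋀[A]^n E) x).compAlternatingMap (ιMulti A n)
  map_add' x y := by ext v; simp [add_tmul]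
  map_smul' c x := by ext v; simp [smul_tmul']

theorem tw_apply (x : E) (v : Fin n → E) : tw A E n x v = x ⊗ₜ ιMulti A n v := rfl

/-- The antisymmetrisation. -/
def sg : ↥(⋀[A]^(n + 1) E) →ₗ[A] E ⊗[A] ↥(⋀[A]^n E) :=
  exteriorPower.alternatingMapLinearEquiv (AlternatingMap.alternatizeUncurryFin (tw A E n))

theorem sg_ιMulti (v : Fin (n + 1) → E) :
    sg A E n (ιMulti A (n + 1) v) = ∑ i : Fin (n + 1), (-1 : ℤ) ^ (i : ℕ) • (v i ⊗ₜ[A] ιMulti A n (i.removeNth v)) := by
  rw [sg, alternatingMapLinearEquiv_apply_ιMulti, AlternatingMap.alternatizeUncurryFin_apply]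
  rfl

theorem mu_sg (x : ↥(⋀[A]^(n + 1) E)) : mu A E n (sg A E n x) = (n + 1) • x := by
  have h : mu A E n ∘ₗ sg A E n = (n + 1) • LinearMap.id := by
    refine exteriorPower.linearMap_ext (AlternatingMap.ext fun v => ?_)
    have e := AlternatingMap.congr_fun
      (AlternatingMap.alternatizeUncurryFin_curryLeft (ιMulti A (n + 1) (M := E))) v
    rw [AlternatingMap.alternatizeUncurryFin_apply, AlternatingMap.smul_apply] at e
    show mu A E n (sg A E n (ιMulti A (n + 1) v)) = (n + 1) • ιMulti A (n + 1) v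
    rw [sg_ιMulti, map_sum, ← e]
    refine Finset.sum_congr rfl fun i _ => ?_
    rw [map_zsmul, mu_tmul]
    rfl
  exact LinearMap.congr_fun h x

end alg

variable {X : Scheme.{u}} {G L L' : X.Modules} {n : ℕ}
  (φ : ∀ U : X.affineOpens, Γ(L, U.1) ≃ₗ[Γ(X, U.1)] ↥(⋀[Γ(X, U.1)]^(n + 1) Γ(G, U.1)))
  (φ' : ∀ U : X.affineOpens, Γ(L', U.1) ≃ₗ[Γ(X, U.1)] ↥(⋀[Γ(X, U.1)]^n Γ(G, U.1)))

/-- Sections of the tensor product from the tensor product with the exterior power. -/
def tt (U : X.affineOpens) :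
    Γ(G, U.1) ⊗[Γ(X, U.1)] ↥(⋀[Γ(X, U.1)]^n Γ(G, U.1)) →ₗ[Γ(X, U.1)] Γ(CohB1.tensorMod G L', U.1) :=
  (CBC10.secTensor G L').comp (TensorProduct.map LinearMap.id (φ' U).symm.toLinearMap)

theorem bijective_tt (hG : Coh.IsQCoh G) (hL' : Coh.IsQCoh L') (U : X.affineOpens) :
    Function.Bijective (tt φ' U) :=
  (CBC10.bijective_secTensor G L' hG hL' U.2).comp
    (TensorProduct.congr (LinearEquiv.refl _ _) (φ' U).symm).bijective

theorem res_tt
    (hφ' : ∀ (U V : X.affineOpens) (h : V.1 ≤ U.1) (e : Fin n → Γ(G, U.1)),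
      M1.mres L' h ((φ' U).symm (ιMulti _ n e)) = (φ' V).symm (ιMulti _ n fun j => M1.mres G h (e j)))
    (U V : X.affineOpens) (h : V.1 ≤ U.1) (x : Γ(G, U.1)) (v : Fin n → Γ(G, U.1)) :
    M1.mres (CohB1.tensorMod G L') h (tt φ' U (x ⊗ₜ ιMulti _ n v)) =
      tt φ' V (M1.mres G h x ⊗ₜ ιMulti _ n (fun j => M1.mres G h (v j))) := by
  simp only [tt, LinearMap.comp_apply, TensorProduct.map_tmul, CBC10.secTensor_tmul, LinearMap.id_apply]
  refine (M2.res_tsec (M := G) (N := L') h _ _).trans ?_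
  exact congrArg (M2.tsec G L' (M1.mres G h x)) (hφ' U V h v)

/-- An exterior power is a retract up to `n + 1` of the tensor product. -/
theorem exists_maps (hG : Coh.IsQCoh G) (hL' : Coh.IsQCoh L')
    (hL : ExtPow.IsExtPow (n + 1) G L) (hL'e : ExtPow.IsExtPow n G L') :
    ∃ (m : CohB1.tensorMod G L' ⟶ L) (s : L ⟶ CohB1.tensorMod G L'),
      ∀ (U : X.affineOpens) (a : Γ(L, U.1)), (s ≫ m).app U.1 a = (n + 1) • a := by
  obtain ⟨φ, hφ⟩ := exists_phi hL
  obtain ⟨φ', hφ'⟩ := exists_phi hL'e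
  let e := fun U : X.affineOpens => LinearEquiv.ofBijective (tt φ' U) (bijective_tt φ' hG hL' U)
  obtain ⟨m, hm⟩ := exists_glue (P := fun _ => True) isAffBasis_top
    (fun U _ => ((φ U).symm.toLinearMap ∘ₗ mu Γ(X, U.1) Γ(G, U.1) n ∘ₗ (e U).symm.toLinearMap).toAddMonoidHom)
    (fun U _ c a => (((φ U).symm.toLinearMap ∘ₗ mu Γ(X, U.1) Γ(G, U.1) n ∘ₗ (e U).symm.toLinearMap)).map_smul c a)
    (fun U _ V _ h a => by
      obtain ⟨z, rfl⟩ := (e U).surjective a
      show M1.mres L h ((φ U).symm (mu _ _ n ((e U).symm (e U z)))) =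
        (φ V).symm (mu _ _ n ((e V).symm (M1.mres _ h (e U z))))
      rw [LinearEquiv.symm_apply_apply]
      induction z using TensorProduct.induction_on with
      | zero => simp only [map_zero]
      | add a b ha hb => simp only [map_add, ha, hb]
      | tmul x y =>
        have hy : y ∈ Submodule.span Γ(X, U.1) (Set.range (ιMulti Γ(X, U.1) n (M := Γ(G, U.1)))) := by
          rw [ιMulti_span]; trivial
        induction hy using Submodule.span_induction with
        | zero => simp only [tmul_zero, map_zero]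
        | add a b _ _ ha hb => simp only [tmul_add, map_add, ha, hb]
        | smul c a _ ha => simp only [tmul_smul, map_smul, ExtFil4.res_smul, ha]
        | mem a ha =>
          obtain ⟨v, rfl⟩ := ha
          rw [show M1.mres _ h (e U (x ⊗ₜ ιMulti _ n v)) = e V (M1.mres G h x ⊗ₜ ιMulti _ n fun j => M1.mres G h (v j))
            from res_tt φ' hφ' U V h x v, LinearEquiv.symm_apply_apply, mu_tmul, mu_tmul, hφ U V h]
          congr 2
          funext i
          refine Fin.cases ?_ (fun j => ?_) i <;> simp)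
  obtain ⟨s, hs⟩ := exists_glue (P := fun _ => True) isAffBasis_top
    (fun U _ => ((e U).toLinearMap ∘ₗ sg Γ(X, U.1) Γ(G, U.1) n ∘ₗ (φ U).toLinearMap).toAddMonoidHom)
    (fun U _ c a => (((e U).toLinearMap ∘ₗ sg Γ(X, U.1) Γ(G, U.1) n ∘ₗ (φ U).toLinearMap)).map_smul c a)
    (fun U _ V _ h a => by
      obtain ⟨z, rfl⟩ := (φ U).symm.surjective a
      show M1.mres _ h (e U (sg _ _ n (φ U ((φ U).symm z)))) = e V (sg _ _ n (φ V (M1.mres L h ((φ U).symm z))))
      rw [LinearEquiv.apply_symm_apply]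
      have hz : z ∈ Submodule.span Γ(X, U.1) (Set.range (ιMulti Γ(X, U.1) (n + 1) (M := Γ(G, U.1)))) := by
        rw [ιMulti_span]; trivial
      induction hz using Submodule.span_induction with
      | zero => simp only [map_zero]
      | add a b _ _ ha hb => simp only [map_add, ha, hb]
      | smul c a _ ha => simp only [map_smul, ExtFil4.res_smul, ha]
      | mem a ha =>
        obtain ⟨v, rfl⟩ := ha
        rw [hφ U V h, LinearEquiv.apply_symm_apply, sg_ιMulti, sg_ιMulti]
        simp only [map_sum, map_zsmul]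
        refine Finset.sum_congr rfl fun i _ => ?_
        congr 1
        exact res_tt φ' hφ' U V h (v i) (i.removeNth v))
  refine ⟨m, s, fun U a => ?_⟩
  show m.app U.1 (s.app U.1 a) = _
  rw [hs U trivial a, hm U trivial]
  show (φ U).symm (mu _ _ n ((e U).symm (e U (sg _ _ n (φ U a))))) = _
  rw [LinearEquiv.symm_apply_apply, mu_sg, map_nsmul, LinearEquiv.symm_apply_apply]

/-- In characteristic zero the next exterior power is a retract of the tensor product. -/
theorem exists_retract {k : Type u} [Field k] [CharZero k] (p : X ⟶ Spec (CommRingCat.of k))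
    (hG : Coh.IsQCoh G) (hL' : Coh.IsQCoh L') (hL : ExtPow.IsExtPow (n + 1) G L) (hL'e : ExtPow.IsExtPow n G L') :
    ∃ (i : L ⟶ CohB1.tensorMod G L') (r : CohB1.tensorMod G L' ⟶ L), i ≫ r = 𝟙 L := by
  obtain ⟨m, s, hsm⟩ := exists_maps hG hL' hL hL'e
  haveI : IsIso (s ≫ m) := (M1.isIso_iff_stalk _).2 fun x =>
    KoszShH13.bijective_stalk_of_basis isAffBasis_top _ x fun U _ _ => by
      have hu : IsUnit (((n + 1 : ℕ)) : Γ(X, U.1)) := by
        let ψ : k →+* Γ(X, U.1) := (X.presheaf.map (homOfLE (le_top : U.1 ≤ ⊤)).op).hom.comp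
          ((Scheme.ΓSpecIso (CommRingCat.of k)).inv ≫ p.appTop).hom
        rw [← map_natCast ψ (n + 1)]
        exact (isUnit_iff_ne_zero.2 (Nat.cast_ne_zero.2 (Nat.succ_ne_zero n))).map ψ
      have : ⇑((s ≫ m).app U.1).hom = fun a : Γ(L, U.1) => ((n + 1 : ℕ) : Γ(X, U.1)) • a := funext fun a =>
        (hsm U a).trans (Nat.cast_smul_eq_nsmul _ _ _).symm
      refine this ▸ ⟨fun a b h => hu.smul_left_cancel.1 h, fun b => ⟨(↑hu.unit⁻¹ : Γ(X, U.1)) • b, ?_⟩⟩
      show _ • ((↑hu.unit⁻¹ : Γ(X, U.1)) • b) = b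
      rw [smul_smul, IsUnit.mul_val_inv, one_smul]
  exact ⟨s, m ≫ inv (s ≫ m), by rw [← Category.assoc, IsIso.hom_inv_id]⟩

end Groth.Agent.ExtRet11

end
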